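import Mathlib
import Groth.Agent.Lib.Helper7.FibProper.ClosedImm

set_option autoImplicit false
set_option linter.style.haveILetI false
set_option linter.unusedVariables false
set_option linter.unusedSectionVars false
set_option backward.isDefEq.respectTransparency.types false

open CategoryTheory CategoryTheory.Limits AlgebraicGeometry Opposite Topology TopologicalSpace

universe u

/-! helper7: being a closed immersion and being an immersion are constructible relations on
morphisms of algebraic schemes; the locus where the morphism of fibres is an immersion is locally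
constructible (EGA IV 9.6.1). Immersions are treated through the factorisation of a morphism with
locally closed range through the coborder of its range. -/

namespace Groth.Agent.Helper7.FibImm

open Groth.Agent.Helper7.ConsMor Groth.Agent.Helper7.FibTop Groth.Agent.Helper7.FibProper
  Groth.Agent.Helper7

section Desc

/-- monomorphisms descend along surjective flat quasi-compact base changes. -/
theorem mono_of_isPullback {X Y X' Y' : Scheme.{u}} {f : X ⟶ Y} {f' : X' ⟶ Y'} {i : X' ⟶ X}
    {j : Y' ⟶ Y} (h : IsPullback i f' f j) (hj : Surjective j) (hj' : Flat j)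
    (hj'' : QuasiCompact j) (hf' : Mono f') : Mono f := by
  have hθ := isPullback_diagMap_base h
  have h1 : Surjective (diagMap h) :=
    MorphismProperty.of_isPullback (P := @Surjective) hθ.flip hj
  have h2 : Flat (diagMap h) := MorphismProperty.of_isPullback (P := @Flat) hθ.flip hj'
  have h3 : QuasiCompact (diagMap h) :=
    MorphismProperty.of_isPullback (P := @QuasiCompact) hθ.flip hj''
  have hiso' : IsIso (pullback.diagonal f') := (pullback.isIso_diagonal_iff f').mpr hf'
  have hiso : IsIso (pullback.diagonal f) :=
    (inferInstance : (MorphismProperty.isomorphisms Scheme.{u}).DescendsAlong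
      (@Surjective ⊓ @Flat ⊓ @QuasiCompact : MorphismProperty Scheme.{u})).of_isPullback
      (isPullback_diagonal h).flip ⟨⟨h1, h2⟩, h3⟩ hiso'
  exact (pullback.isIso_diagonal_iff f).mp hiso

/-- being a closed immersion is invariant under extension of the base field. -/
theorem isFieldStableMor_isClosedImmersion :
    ConsProp.IsFieldStableMor (MorProp (@IsClosedImmersion : MorphismProperty Scheme.{u})) := by
  intro X X' Y Y' T T' f g f' g' eX eY h _ _ _ _ _ _ _ _ hY hX
  constructor
  · intro hf
    exact MorphismProperty.of_isPullback (P := @IsClosedImmersion) hX hf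
  · intro hf'
    have hf'' : IsClosedImmersion f' := hf'
    obtain ⟨h1, h2, h3, h4, h5⟩ := field_setup f g f' g' eX eY h hY
    have hp : IsProper f :=
      (isFieldStableMor_isProper f g f' g' eX eY h hY hX).mpr
        (inferInstance : IsProper f')
    have hm : Mono f := mono_of_isPullback hX h2 h1 h3 inferInstance
    exact (IsClosedImmersion.iff_isProper_and_mono (f := f)).mpr ⟨hp, hm⟩

/-- being a closed immersion is a constructible relation on morphisms. -/
theorem isConsMor_isClosedImmersion :
    ConsProp.IsConsMor (MorProp (@IsClosedImmersion : MorphismProperty Scheme.{u})) :=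
  isConsMor_of_isLocallyConstructible _ isFieldStableMor_isClosedImmersion
    (fun f g => isLocallyConstructible_setOf_isClosedImmersion f g)

end Desc

section Imm

/-- a morphism with closed range followed by an open immersion is an immersion exactly when it is
a closed immersion. -/
theorem isImmersion_comp_iff_isClosedImmersion {A B' B : Scheme.{u}} (φ₀ : A ⟶ B') (j : B' ⟶ B)
    [IsOpenImmersion j] (hcl : IsClosed (Set.range φ₀)) :
    IsImmersion (φ₀ ≫ j) ↔ IsClosedImmersion φ₀ := by
  constructor
  · intro h
    haveI := h
    haveI : IsImmersion φ₀ := IsImmersion.of_comp φ₀ j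
    exact IsClosedImmersion.of_isPreimmersion φ₀ hcl
  · intro h
    infer_instance

/-- a morphism factors through the coborder of its range, with closed range there. -/
theorem exists_lift_coborder {X Y : Scheme.{u}} (f : X ⟶ Y) (U : Y.Opens)
    (hU : (U : Set Y) = coborder (Set.range f)) :
    ∃ f₀ : X ⟶ U, f₀ ≫ U.ι = f ∧ IsClosed (Set.range f₀) := by
  have hsub : Set.range f ⊆ Set.range U.ι := by
    rw [Scheme.Opens.range_ι, hU]
    exact subset_coborder
  refine ⟨IsOpenImmersion.lift U.ι f hsub, IsOpenImmersion.lift_fac _ _ _, ?_⟩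
  have e : Set.range (IsOpenImmersion.lift U.ι f hsub) = U.ι ⁻¹' closure (Set.range f) := by
    ext y
    constructor
    · rintro ⟨x, rfl⟩
      show U.ι (IsOpenImmersion.lift U.ι f hsub x) ∈ closure (Set.range f)
      rw [← Scheme.Hom.comp_apply, IsOpenImmersion.lift_fac]
      exact subset_closure ⟨x, rfl⟩
    · intro hy
      have hy' : U.ι y ∈ coborder (Set.range f) ∩ closure (Set.range f) := by
        refine ⟨?_, hy⟩
        rw [← hU]
        exact y.2
      rw [coborder_inter_closure] at hy'
      obtain ⟨x, hx⟩ := hy'
      refine ⟨x, U.ι.injective ?_⟩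
      rw [← Scheme.Hom.comp_apply, IsOpenImmersion.lift_fac]
      exact hx
  rw [e]
  exact isClosed_closure.preimage U.ι.continuous

end Imm

section Stable

set_option backward.isDefEq.respectTransparency false in
/-- being an immersion is invariant under extension of the base field. -/
theorem isFieldStableMor_isImmersion :
    ConsProp.IsFieldStableMor (MorProp (@IsImmersion : MorphismProperty Scheme.{u})) := by
  intro X X' Y Y' T T' f g f' g' eX eY h _ _ _ _ _ _ _ _ hY hX
  constructor
  · intro hf
    exact MorphismProperty.of_isPullback (P := @IsImmersion) hX hf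
  · intro hf'
    have hf'' : IsImmersion f' := hf'
    obtain ⟨h1, h2, h3, h4, h5⟩ := field_setup f g f' g' eX eY h hY
    haveI : UniversallyOpen eY :=
      MorphismProperty.of_isPullback (P := @UniversallyOpen) hY.flip inferInstance
    have hr : Set.range f' = eY ⁻¹' Set.range f := range_snd_of_isPullback hX
    have hlc : IsLocallyClosed (Set.range f) := by
      have h0 := f'.isLocallyClosed_range
      rw [hr] at h0
      exact (topInv_locClosedFst ↥Y ↥Y' eY eY.continuous eY.isOpenMap eY.surjective
        (Set.range f) (Set.range f)).mp h0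
    obtain ⟨U, hU⟩ : ∃ U : Y.Opens, (U : Set Y) = coborder (Set.range f) :=
      ⟨⟨coborder (Set.range f), hlc.isOpen_coborder⟩, rfl⟩
    obtain ⟨f₀, hf₀, hcl⟩ := exists_lift_coborder f U hU
    have hU' : ((eY ⁻¹ᵁ U : Y'.Opens) : Set Y') = coborder (Set.range f') := by
      rw [hr, coborder_preimage eY.isOpenMap eY.continuous, ← hU]
      rfl
    obtain ⟨f₀', hf₀', hcl'⟩ := exists_lift_coborder f' (eY ⁻¹ᵁ U) hU'
    have hres := (isPullback_morphismRestrict eY U).flip
    have hsq : IsPullback f₀' eX (eY ∣_ U) f₀ := by
      refine IsPullback.of_right ?_ ?_ hres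
      · rw [hf₀', hf₀]
        exact hX.flip
      · rw [← cancel_mono U.ι, Category.assoc, Category.assoc, morphismRestrict_ι,
          reassoc_of% hf₀', hf₀, hX.w]
    have hci' : IsClosedImmersion f₀' :=
      (isImmersion_comp_iff_isClosedImmersion f₀' (eY ⁻¹ᵁ U).ι hcl').mp (by
        rw [hf₀']; exact hf'')
    have s1 : Surjective (eY ∣_ U) := MorphismProperty.of_isPullback (P := @Surjective) hres h2
    have s2 : Flat (eY ∣_ U) := MorphismProperty.of_isPullback (P := @Flat) hres h1
    have s3 : QuasiCompact (eY ∣_ U) :=
      MorphismProperty.of_isPullback (P := @QuasiCompact) hres h3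
    haveI s4 : UniversallyOpen (eY ∣_ U) :=
      MorphismProperty.of_isPullback (P := @UniversallyOpen) hres inferInstance
    haveI := s1
    haveI : LocallyOfFiniteType f := locallyOfFiniteType_of_comp f g
    haveI : LocallyOfFiniteType (f₀ ≫ U.ι) := by rw [hf₀]; infer_instance
    haveI : LocallyOfFiniteType f₀ := locallyOfFiniteType_of_comp f₀ U.ι
    haveI : IsSeparated f₀ := isSeparated_of_isPullback hsq.flip inferInstance
    haveI : UniversallyClosed f₀ :=
      (inferInstance : MorphismProperty.DescendsAlong (@UniversallyClosed)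
        (@Surjective ⊓ @Flat ⊓ @QuasiCompact : MorphismProperty Scheme.{u})).of_isPullback
        hsq ⟨⟨s1, s2⟩, s3⟩ inferInstance
    have hp : IsProper f₀ := {}
    have hm : Mono f₀ := mono_of_isPullback hsq.flip s1 s2 s3 inferInstance
    haveI hci : IsClosedImmersion f₀ :=
      (IsClosedImmersion.iff_isProper_and_mono (f := f₀)).mpr ⟨hp, hm⟩
    show IsImmersion f
    rw [← hf₀]
    infer_instance

end Stable

section Generic

/-- a property of the base change of a morphism over the base does not depend on the way the
source is presented over the base. -/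
theorem prop_fm_congr (Q : MorphismProperty Scheme.{u}) {A B S T : Scheme.{u}} {u u' : A ⟶ S}
    {v : B ⟶ S} (e : u = u') (φ : A ⟶ B) (h : φ ≫ v = u) (t : T ⟶ S) :
    Q (fm φ h t) ↔ Q (fm φ (h.trans e) t) := by
  subst e
  rfl

/-- a constructible subset of an integral Noetherian scheme containing the generic point is a
neighbourhood of it. -/
theorem genericPoint_mem_interior {S : Scheme.{u}} [IsIntegral S] [IsNoetherian S] {E : Set S}
    (hE : IsConstructible E) (hη : genericPoint S ∈ E) : genericPoint S ∈ interior E := by
  rcases interior_nonempty_or_of_isConstructible hE with h | h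
  · obtain ⟨x, hx⟩ := h
    exact ((genericPoint_spec S).mem_open_set_iff isOpen_interior).mpr ⟨x, trivial, hx⟩
  · obtain ⟨x, hx⟩ := h
    have h1 : genericPoint S ∈ interior Eᶜ :=
      ((genericPoint_spec S).mem_open_set_iff isOpen_interior).mpr ⟨x, trivial, hx⟩
    exact absurd hη (interior_subset h1)

variable {X Y S : Scheme.{u}} (f : X ⟶ Y) (g : Y ⟶ S) [IsIntegral S] [IsNoetherian S]
  [LocallyOfFiniteType g] [QuasiCompact g] [LocallyOfFiniteType (f ≫ g)] [QuasiCompact (f ≫ g)]

set_option backward.isDefEq.respectTransparency false in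
/-- the generic dichotomy for immersions when the range of the morphism is locally closed: the
morphism of fibres is an immersion exactly when the morphism of fibres into the coborder of the
range is a closed immersion. -/
theorem generic_isImmersion_of_isLocallyClosed (hlc : IsLocallyClosed (Set.range f)) :
    (interior (ConsProp.locusMor
      (MorProp (@IsImmersion : MorphismProperty Scheme.{u})) f g)).Nonempty ∨
    (interior (ConsProp.locusMor
      (MorProp (@IsImmersion : MorphismProperty Scheme.{u})) f g)ᶜ).Nonempty := by
  obtain ⟨U, hU⟩ : ∃ U : Y.Opens, (U : Set Y) = coborder (Set.range f) :=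
    ⟨⟨coborder (Set.range f), hlc.isOpen_coborder⟩, rfl⟩
  obtain ⟨f₀, hf₀, hcl⟩ := exists_lift_coborder f U hU
  have h₀ : f₀ ≫ (U.ι ≫ g) = f ≫ g := by rw [← Category.assoc, hf₀]
  haveI : IsLocallyNoetherian Y := LocallyOfFiniteType.isLocallyNoetherian g
  haveI : CompactSpace Y := QuasiCompact.compactSpace_of_compactSpace g
  haveI : IsNoetherian Y := {}
  haveI : QuasiCompact U.ι := inferInstance
  haveI : LocallyOfFiniteType (f₀ ≫ (U.ι ≫ g)) := by rw [h₀]; infer_instance
  haveI : QuasiCompact (f₀ ≫ (U.ι ≫ g)) := by rw [h₀]; infer_instance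
  have key : ConsProp.locusMor (MorProp (@IsImmersion : MorphismProperty Scheme.{u})) f g =
      ConsProp.locusMor (MorProp (@IsClosedImmersion : MorphismProperty Scheme.{u})) f₀
        (U.ι ≫ g) := by
    ext s
    show IsImmersion (MoreMor.fiberMap f g s) ↔
      IsClosedImmersion (MoreMor.fiberMap f₀ (U.ι ≫ g) s)
    have main : ∀ {T : Scheme.{u}} (t : T ⟶ S),
        IsImmersion (fm (u := f ≫ g) (v := g) f rfl t) ↔
          IsClosedImmersion (fm (u := f₀ ≫ (U.ι ≫ g)) (v := U.ι ≫ g) f₀ rfl t) := by
      intro T t
      rw [prop_fm_congr @IsClosedImmersion h₀ f₀ rfl t]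
      have hcomp : fm f₀ (rfl.trans h₀) t ≫ fm (u := U.ι ≫ g) (v := g) U.ι rfl t =
          fm (u := f ≫ g) (v := g) f rfl t := by
        rw [fm_comp]
        exact fm_congr hf₀ _ t
      haveI : IsOpenImmersion (fm (u := U.ι ≫ g) (v := g) U.ι rfl t) :=
        MorphismProperty.of_isPullback (P := @IsOpenImmersion) (isPullback_fm U.ι rfl t)
          inferInstance
      have hclt : IsClosed (Set.range (fm f₀ (rfl.trans h₀) t)) := by
        rw [range_snd_of_isPullback (isPullback_fm f₀ (rfl.trans h₀) t)]
        exact hcl.preimage (pullback.fst (U.ι ≫ g) t).continuous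
      rw [← hcomp]
      exact isImmersion_comp_iff_isClosedImmersion _ _ hclt
    have h1 := main (S.fromSpecResidueField s)
    rw [fm_eq_fiberMap, fm_eq_fiberMap] at h1
    exact h1
  rw [key]
  exact isConsMor_isClosedImmersion.2 f₀ (U.ι ≫ g)

end Generic

section Main

set_option backward.isDefEq.respectTransparency false in
/-- the generic dichotomy for immersions. -/
theorem generic_isImmersion {X Y S : Scheme.{u}} (f : X ⟶ Y) (g : Y ⟶ S) [IsIntegral S]
    [IsNoetherian S] [LocallyOfFiniteType g] [QuasiCompact g] [LocallyOfFiniteType (f ≫ g)]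
    [QuasiCompact (f ≫ g)] :
    (interior (ConsProp.locusMor
      (MorProp (@IsImmersion : MorphismProperty Scheme.{u})) f g)).Nonempty ∨
    (interior (ConsProp.locusMor
      (MorProp (@IsImmersion : MorphismProperty Scheme.{u})) f g)ᶜ).Nonempty := by
  haveI : IsLocallyNoetherian Y := LocallyOfFiniteType.isLocallyNoetherian g
  haveI : CompactSpace Y := QuasiCompact.compactSpace_of_compactSpace g
  haveI : IsNoetherian Y := {}
  haveI : LocallyOfFiniteType f := locallyOfFiniteType_of_comp f g
  haveI : QuasiCompact f := QuasiCompact.of_comp f g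
  have hZ : IsConstructible (Set.range f) := by
    rw [← Set.image_univ]
    exact f.isConstructible_image IsConstructible.univ
  have hcl : ∀ A : Set Y, IsConstructible (closure A) := fun A =>
    Groth.Agent.Helper1.ConstrL.isConstructible_of_isLocallyClosed
      isClosed_closure.isLocallyClosed
  have hW : IsConstructible (closure (Set.range f) \ Set.range f) := (hcl _).sdiff hZ
  have hC : IsConstructible (g '' (closure (closure (Set.range f) \ Set.range f) \
      (closure (Set.range f) \ Set.range f))) :=
    g.isConstructible_image ((hcl _).sdiff hW)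
  obtain ⟨V₁, hV₁, hVeq₁⟩ := closure_fibre_eq_near_generic g (Set.range f) hZ
  obtain ⟨V₂, hV₂, hVeq₂⟩ :=
    closure_fibre_eq_near_generic g (closure (Set.range f) \ Set.range f) hW
  have key : ∀ s ∈ V₁ ⊓ V₂, IsLocallyClosed ((g.fiberι s) ⁻¹' Set.range f) ↔
      s ∉ g '' (closure (closure (Set.range f) \ Set.range f) \
        (closure (Set.range f) \ Set.range f)) := by
    intro s hs
    rw [isLocallyClosed_iff_isOpen_coborder, coborder, isOpen_compl_iff, hVeq₁ s hs.1,
      ← Set.preimage_sdiff, ← closure_subset_iff_isClosed, hVeq₂ s hs.2]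
    exact fibre_preimage_subset_iff g s _ _
  have hrange : ∀ s : S, Set.range (MoreMor.fiberMap f g s) = (g.fiberι s) ⁻¹' Set.range f :=
    fun s => range_snd_of_isPullback (isPullback_fiberMap f g s)
  by_cases hη : genericPoint S ∈ g '' (closure (closure (Set.range f) \ Set.range f) \
      (closure (Set.range f) \ Set.range f))
  · right
    have hint := genericPoint_mem_interior hC hη
    refine ⟨genericPoint S, mem_interior.mpr ⟨((V₁ ⊓ V₂ : S.Opens) : Set S) ∩ interior _, ?_,
      (V₁ ⊓ V₂).2.inter isOpen_interior, ⟨⟨hV₁, hV₂⟩, hint⟩⟩⟩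
    rintro s ⟨hs, hsC⟩ hmem
    have hmem' : IsImmersion (MoreMor.fiberMap f g s) := hmem
    have h1 := (MoreMor.fiberMap f g s).isLocallyClosed_range
    rw [hrange] at h1
    exact (key s hs).mp h1 (interior_subset hsC)
  · have hint := genericPoint_mem_interior hC.compl hη
    obtain ⟨V, hVdef⟩ : ∃ V : S.Opens, V = V₁ ⊓ V₂ ⊓ ⟨interior (g '' (closure (closure
        (Set.range f) \ Set.range f) \ (closure (Set.range f) \ Set.range f)))ᶜ,
        isOpen_interior⟩ := ⟨_, rfl⟩
    have hηV : genericPoint S ∈ V := by
      rw [hVdef]
      exact ⟨⟨hV₁, hV₂⟩, hint⟩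
    have hY := IsPullback.of_hasPullback g V.ι
    have hX := IsPullback.of_hasPullback f (pullback.fst g V.ι)
    obtain ⟨i1, i2, i3, i4⟩ := lft_comp_of_isPullback hY hX
    haveI : Nonempty ↥V := ⟨⟨_, hηV⟩⟩
    haveI : Nonempty ↥(V : Scheme.{u}) := ⟨⟨_, hηV⟩⟩
    haveI : IsIntegral (V : Scheme.{u}) := isIntegral_of_isOpenImmersion V.ι
    haveI : CompactSpace ↥(V : Scheme.{u}) :=
      isCompact_iff_compactSpace.mp (TopologicalSpace.NoetherianSpace.isCompact (V : Set S))
    haveI : IsNoetherian (V : Scheme.{u}) := {}
    have hπ : genericPoint S ∈ Set.range V.ι := by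
      rw [Scheme.Opens.range_ι]
      exact hηV
    refine interior_or_of_transfer isFieldStableMor_isImmersion f g V.ι _ _ _ _ hY hX hπ
      (generic_isImmersion_of_isLocallyClosed _ _ ?_)
    rw [range_snd_of_isPullback hX]
    have hdisj : ∀ y : Y, g y ∈ V →
        y ∈ closure (closure (Set.range f) \ Set.range f) →
          y ∈ closure (Set.range f) \ Set.range f := by
      intro y hyV hy
      by_contra hyW
      have h1 : g y ∈ interior (g '' (closure (closure (Set.range f) \ Set.range f) \
          (closure (Set.range f) \ Set.range f)))ᶜ := by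
        rw [hVdef] at hyV
        exact hyV.2
      exact interior_subset h1 ⟨y, ⟨hy, hyW⟩, rfl⟩
    have e : (pullback.fst g V.ι) ⁻¹' Set.range f = (pullback.fst g V.ι) ⁻¹'
        (closure (Set.range f) ∩ (closure (closure (Set.range f) \ Set.range f))ᶜ) := by
      ext p
      have hp : g (pullback.fst g V.ι p) ∈ V := by
        rw [← Scheme.Hom.comp_apply, pullback.condition, Scheme.Hom.comp_apply]
        exact (pullback.snd g V.ι p).2
      simp only [Set.mem_preimage, Set.mem_inter_iff, Set.mem_compl_iff]
      constructor
      · intro h1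
        refine ⟨subset_closure h1, fun h2 => ?_⟩
        exact (hdisj _ hp h2).2 h1
      · rintro ⟨h1, h2⟩
        by_contra h3
        exact h2 (subset_closure ⟨h1, h3⟩)
    rw [e]
    exact (isClosed_closure.isLocallyClosed.inter
      isClosed_closure.isOpen_compl.isLocallyClosed).preimage (pullback.fst g V.ι).continuous

/-- being an immersion is a constructible relation on morphisms of algebraic schemes. -/
theorem isConsMor_isImmersion :
    ConsProp.IsConsMor (MorProp (@IsImmersion : MorphismProperty Scheme.{u})) :=
  ⟨isFieldStableMor_isImmersion, fun _ _ _ f g _ _ _ _ _ _ => generic_isImmersion f g⟩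

/-- EGA IV 9.6.1: the locus where the morphism of fibres is an immersion is locally
constructible. -/
theorem isLocallyConstructible_setOf_isImmersion {X Y S : Scheme.{u}} (f : X ⟶ Y) (g : Y ⟶ S)
    [LocallyOfFinitePresentation g] [QuasiCompact g] [QuasiSeparated g]
    [LocallyOfFinitePresentation (f ≫ g)] [QuasiCompact (f ≫ g)] [QuasiSeparated (f ≫ g)] :
    IsLocallyConstructible {s : S | IsImmersion (MoreMor.fiberMap f g s)} :=
  isLocallyConstructible_locusMor isConsMor_isImmersion f g

end Main

end Groth.Agent.Helper7.FibImm
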